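import Groth.Agent.Lib.FpqcFun14.Stalk
import Groth.Agent.Lib.Descend.Basic
import Groth.Agent.Lib.TensorMod.PullSupport
import Mathlib.CategoryTheory.Limits.Types.Filtered
import Mathlib.CategoryTheory.Abelian.Basic

/-!
# Limit preservation of functors generated by conditions on base changes
-/

universe u

open CategoryTheory CategoryTheory.Limits AlgebraicGeometry Opposite TopologicalSpace

set_option autoImplicit false
set_option linter.style.haveILetI false
set_option backward.isDefEq.respectTransparency false

noncomputable section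

namespace Groth.Agent.LimFun

variable {S : Scheme.{u}}

/-- A stable condition descending to a stage of limits of affines defines a limit preserving functor. -/
theorem isLimitPreserving_genPSp (P : Over S → Prop) (hP : ∀ ⦃T T₀ : Over S⦄ (_ : T ⟶ T₀), P T₀ → P T)
    (h : ∀ ⦃I : Type u⦄ [SmallCategory I] [IsCofiltered I] (D : I ⥤ Over S) (c : Cone D),
      IsLimit ((Over.forget S).mapCone c) → (∀ i, IsAffine (D.obj i).left) → IsAffine c.pt.left →
        P c.pt → ∃ i, P (D.obj i)) :
    AlgSp.IsLimitPreserving (FlatFun.genPSp S P) := by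
  intro I _ _ D c hc hD hT
  refine ⟨Types.FilteredColimit.isColimitOf _ _ (fun x => ?_) fun i j xi xj _ => ?_⟩
  · obtain ⟨i, hi⟩ := h D c hc hD hT ((FlatFun.genPSp_nonempty_iff_of_stable P hP _).1 ⟨x⟩)
    obtain ⟨y⟩ := FlatFun.genPSp_nonempty_of P hi
    exact ⟨op i, y, @Subsingleton.elim _ (inferInstanceAs (Subsingleton ((FlatFun.genPSp S P).obj (op c.pt)))) _ _⟩
  · exact ⟨IsFiltered.max i j, IsFiltered.leftToMax i j, IsFiltered.rightToMax i j,
      @Subsingleton.elim _
        (inferInstanceAs (Subsingleton ((FlatFun.genPSp S P).obj (op (D.obj (IsFiltered.max i j).unop))))) _ _⟩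

variable {X : Scheme.{u}} (f : X ⟶ S)

/-- A point of a limit base change lies over a point of every stage; conversely compatible closed nonempty
conditions give a point of the limit. -/
theorem exists_point [QuasiCompact f] {I : Type u} [SmallCategory I] [IsCofiltered I] (D : I ⥤ Over S) (c : Cone D)
    (hc : IsLimit ((Over.forget S).mapCone c)) (hD : ∀ i, IsAffine (D.obj i).left) {Z : Set X} (hZ : IsClosed Z)
    (hne : ∀ i, ∃ z : ↥(pullback f (D.obj i).hom), pullback.fst f (D.obj i).hom z ∈ Z) :
    ∃ z : ↥(pullback f c.pt.hom), pullback.fst f c.pt.hom z ∈ Z := by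
  let D' := D ⋙ Over.forget S
  let t : D' ⟶ (Functor.const I).obj S :=
    { app := fun i => (D.obj i).hom
      naturality := fun i j a => by simp [D'] }
  let c' : Cone D' := (Over.forget S).mapCone c
  have hq : ∀ j, c'.π.app j ≫ t.app j = c.pt.hom := fun j => Over.w (c.π.app j)
  have hpb : IsPullback (pullback.fst f c.pt.hom) (pullback.snd f c.pt.hom) f c.pt.hom :=
    IsPullback.of_hasPullback _ _
  haveI hcpt : ∀ i, CompactSpace ↥((Descend.pbDiagram D' t f).obj i) := fun i => by
    haveI := hD i
    exact QuasiCompact.compactSpace_of_compactSpace (pullback.snd f (D.obj i).hom)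
  haveI : ∀ {i j} (a : i ⟶ j), IsAffineHom ((Descend.pbDiagram D' t f).map a) := fun {i j} a => by
    haveI := hD i
    haveI := hD j
    exact MorphismProperty.of_isPullback (P := @IsAffineHom) (Descend.pbMap_isPullback D' t f a).flip
      (inferInstanceAs (IsAffineHom (D.map a).left))
  have hclosed : ∀ i, IsClosed (pullback.fst f (t.app i) ⁻¹' Z) := fun i =>
    hZ.preimage (pullback.fst f (t.app i)).continuous
  obtain ⟨s, hs⟩ := exists_mem_of_isClosed_of_nonempty (Descend.pbDiagram D' t f)
    (Descend.pbCone D' t f c' hq hpb) (Descend.pbIsLimit D' t f c' hq hpb hc)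
    (fun i => pullback.fst f (t.app i) ⁻¹' Z) hclosed hne (fun i => IsClosed.isCompact (h := hclosed i) (X := ↥((Descend.pbDiagram D' t f).obj i)))
    (fun {i i'} a z hz => by
      show pullback.fst f (t.app i') ((Descend.pbDiagram D' t f).map a z) ∈ Z
      have e := congr($(Descend.pbMap_fst D' t f a) z)
      exact (e : _).symm ▸ hz)
  obtain ⟨i⟩ := IsCofiltered.nonempty (C := I)
  refine ⟨s, ?_⟩
  have h1 := hs i
  have e := congr($(Descend.pbCone_fst D' t f c' hq hpb i) s)
  exact (e : _) ▸ h1

/-- A module with zero stalks is zero. -/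
theorem isZero_of_support_eq_empty {M : X.Modules} (h : CohB1.support M = ∅) : IsZero M := by
  rw [IsZero.iff_id_eq_zero]
  refine Scheme.Modules.hom_ext _ _ fun U => ?_
  ext s
  refine M1.section_ext _ _ fun x hx => ?_
  haveI : Subsingleton (M.presheaf.stalk x) := not_not.1 (Set.eq_empty_iff_forall_notMem.1 h x)
  exact Subsingleton.elim _ _

theorem support_eq_empty_of_isZero {M : X.Modules} (h : IsZero M) : CohB1.support M = ∅ := by
  refine Set.eq_empty_iff_forall_notMem.2 fun x hx => hx ?_
  haveI : IsIso (0 : M ⟶ M) := ⟨0, h.eq_of_src _ _, h.eq_of_src _ _⟩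
  have hb := (M1.isIso_iff_stalk (0 : M ⟶ M)).1 inferInstance x
  refine ⟨fun a b => hb.1 ?_⟩
  rw [Functor.map_zero]
  rfl

/-- Surjectivity after base change is the avoidance of the support of the cokernel. -/
theorem epi_pullback_iff {F G : X.Modules} [Coh.IsQCoh F] [Coh.IsQCoh G] (hG : CohB1.IsFT G) (u : F ⟶ G)
    {Y : Scheme.{u}} (g : Y ⟶ X) :
    Epi ((Scheme.Modules.pullback g).map u) ↔ ∀ y : Y, g y ∉ CohB1.support (cokernel u) := by
  have hC : Coh.IsQCoh (cokernel u) := M1.isQCoh_cokernel inferInstance inferInstance u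
  have hCT : CohB1.IsFT (cokernel u) := M1.isFT_of_epi (cokernel.π u) hG
  haveI : (Scheme.Modules.pullback g).IsLeftAdjoint := (Scheme.Modules.pullbackPushforwardAdjunction g).isLeftAdjoint
  have e : (Scheme.Modules.pullback g).obj (cokernel u) ≅ cokernel ((Scheme.Modules.pullback g).map u) :=
    PreservesCokernel.iso (Scheme.Modules.pullback g) u
  have h1 : Epi ((Scheme.Modules.pullback g).map u) ↔ IsZero ((Scheme.Modules.pullback g).obj (cokernel u)) := by
    constructor
    · intro h
      exact (isZero_cokernel_of_epi _).of_iso e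
    · intro h
      exact Preadditive.epi_of_cokernel_zero ((h.of_iso e.symm).eq_of_tgt _ _)
  rw [h1]
  constructor
  · intro h y hy
    have h2 := support_eq_empty_of_isZero h
    rw [M2.support_pullback g hC hCT] at h2
    exact Set.eq_empty_iff_forall_notMem.1 h2 y hy
  · intro h
    refine isZero_of_support_eq_empty ?_
    rw [M2.support_pullback g hC hCT]
    exact Set.eq_empty_iff_forall_notMem.2 h

/-- The condition "the base change of `u` is an epimorphism" descends to a stage. -/
theorem exists_epi_stage [QuasiCompact f] {F G : X.Modules} [Coh.IsQCoh F] [Coh.IsQCoh G] (hG : CohB1.IsFT G)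
    (u : F ⟶ G) {I : Type u} [SmallCategory I] [IsCofiltered I] (D : I ⥤ Over S) (c : Cone D)
    (hc : IsLimit ((Over.forget S).mapCone c)) (hD : ∀ i, IsAffine (D.obj i).left)
    (h : Epi ((Scheme.Modules.pullback (pullback.fst f c.pt.hom)).map u)) :
    ∃ i, Epi ((Scheme.Modules.pullback (pullback.fst f (D.obj i).hom)).map u) := by
  by_contra hcon
  simp only [not_exists, epi_pullback_iff hG u, not_forall, not_not] at hcon
  obtain ⟨z, hz⟩ := exists_point f D c hc hD (M1.isClosed_support (M1.isFT_of_epi (cokernel.π u) hG)) hcon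
  exact (epi_pullback_iff hG u _).1 h z hz

/-- Stability of the surjectivity condition. -/
theorem epi_stable {F G : X.Modules} (u : F ⟶ G) {T T₀ : Over S} (k : T ⟶ T₀)
    (h : Epi ((Scheme.Modules.pullback (pullback.fst f T₀.hom)).map u)) :
    Epi ((Scheme.Modules.pullback (pullback.fst f T.hom)).map u) := by
  haveI : (Scheme.Modules.pullback (PicF.XTmap f k)).IsLeftAdjoint :=
    (Scheme.Modules.pullbackPushforwardAdjunction _).isLeftAdjoint
  haveI := h
  exact (FpqcFun14.epi_iff_map f u k).1 inferInstance

end Groth.Agent.LimFun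

end
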