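import Groth.Agent.Lib.LimFun.Zero
import Groth.Agent.Lib.SchDom.FlatStage
import Groth.Agent.S4863

/-!
# Flatness of base changes descends to a stage
-/

universe u

open CategoryTheory CategoryTheory.Limits AlgebraicGeometry Opposite TopologicalSpace

set_option autoImplicit false
set_option linter.style.haveILetI false
set_option backward.isDefEq.respectTransparency false

noncomputable section

namespace Groth.Agent.LimFun

variable {S X : Scheme.{u}} (f : X ⟶ S) (F : X.Modules) [Coh.IsQCoh F]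

/-- Flatness at a point passes to base changes. -/
theorem flatAt_map {T T' : Over S} (k : T' ⟶ T) (x : ↥(PicF.XT f T'))
    (h : FlatMod.IsFlatOverAt (PicF.XTproj f T) (FGA.ET f F T) (PicF.XTmap f k x)) :
    FlatMod.IsFlatOverAt (PicF.XTproj f T') (FGA.ET f F T') x := by
  haveI : Coh.IsQCoh (FGA.ET f F T) := M1.isQCoh_pullback _ inferInstance
  exact SchDom.isFlatOverAt_of_iso _ (FpqcFun14.ETIso f F k) x
    (FlatH4.isFlatOverAt_baseChange (HilbBC25.isPullback_XTmap f k) _ x h)

variable [QuasiCompact f] [LocallyOfFinitePresentation f] {I : Type u} [SmallCategory I] [IsCofiltered I]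
  (D : I ⥤ Over S) (c : Cone D) (hc : IsLimit ((Over.forget S).mapCone c))
  (hD : ∀ i, IsAffine (D.obj i).left)

include hc hD

/-- A point at which the base change to the limit is flat is flat at some stage. -/
theorem exists_flatAt_stage (hF : CohB1.IsFP F) (x : ↥(PicF.XT f c.pt))
    (h : FlatMod.IsFlatOverAt (PicF.XTproj f c.pt) (FGA.ET f F c.pt) x) :
    ∃ i, FlatMod.IsFlatOverAt (PicF.XTproj f (D.obj i)) (FGA.ET f F (D.obj i)) (PicF.XTmap f (c.π.app i) x) := by
  obtain ⟨i₀⟩ := IsCofiltered.nonempty (C := I)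
  haveI : ∀ (i j : I) (a : i ⟶ j), IsAffineHom ((D ⋙ Over.forget S).map a) := fun i j a => by
    haveI := hD i
    haveI := hD j
    exact inferInstanceAs (IsAffineHom (D.map a).left)
  let f₀ : PicF.XT f (D.obj i₀) ⟶ (D.obj i₀).left := PicF.XTproj f (D.obj i₀)
  let F₀ := FGA.ET f F (D.obj i₀)
  haveI : Coh.IsQCoh F₀ := M1.isQCoh_pullback _ inferInstance
  have hF₀ : CohB1.IsFP F₀ := M1.isFP_pullback _ hF
  have hZ : IsZero (kernel (𝟙 F₀)) := isZero_kernel_of_mono _
  haveI : Coh.IsQCoh (kernel (𝟙 F₀)) := M1.isQCoh_isZero hZ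
  let h₀ : kernel (𝟙 F₀) ⟶ F₀ := 0
  let qX : PicF.XT f c.pt ⟶ PicF.XT f (D.obj i₀) := PicF.XTmap f (c.π.app i₀)
  have hX : IsPullback qX (PicF.XTproj f c.pt) f₀ (c.π.app i₀).left := HilbBC25.isPullback_XTmap f (c.π.app i₀)
  haveI : IsIso (𝟙 c.pt.left : c.pt.left ⟶ ((Over.forget S).mapCone c).pt) := IsIso.id _
  have hY : IsPullback (c.π.app i₀).left (𝟙 c.pt.left) (𝟙 (D.obj i₀).left)
      (((Over.forget S).mapCone c).π.app i₀) := IsPullback.of_vert_isIso ⟨by
    show (c.π.app i₀).left ≫ 𝟙 _ = 𝟙 _ ≫ (c.π.app i₀).left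
    rw [Category.comp_id, Category.id_comp]⟩
  have hgood : SchDom.Good h₀ qX (PicF.XTproj f c.pt) x :=
    (SchDom.good_iff_of_isZero hZ h₀ qX _ x).2
      (SchDom.isFlatOverAt_of_iso _ (FpqcFun14.ETIso f F (c.π.app i₀)).symm x h)
  obtain ⟨k, vY, vX, h1, h2, h3, h4, hk⟩ :=
    SchDom.exists_stage_good (D ⋙ Over.forget S) ((Over.forget S).mapCone c) hc i₀ f₀ (𝟙 _) _ F₀
      (SchDom.isFP_of_isZero hZ) hF₀ h₀ (PicF.XTproj f c.pt) (𝟙 _) (c.π.app i₀).left qX hY hX x hgood
  refine ⟨k.left, ?_⟩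
  let T := D.obj k.left
  let a : T ⟶ D.obj i₀ := D.map k.hom
  haveI : IsAffineHom a.left := inferInstanceAs (IsAffineHom ((D ⋙ Over.forget S).map k.hom))
  let pY : pullback (𝟙 (D.obj i₀).left) ((D ⋙ Over.forget S).map k.hom) ⟶ (D.obj i₀).left := pullback.fst _ _
  haveI : IsAffineHom pY := inferInstanceAs (IsAffineHom (pullback.fst _ _))
  let wY : T.left ⟶ pullback (𝟙 (D.obj i₀).left) ((D ⋙ Over.forget S).map k.hom) :=
    pullback.lift a.left (𝟙 _) (by rw [Category.comp_id, Category.id_comp]; rfl)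
  have hwY : wY ≫ pY = a.left := pullback.lift_fst _ _ _
  let wX : PicF.XT f T ⟶ pullback f₀ pY :=
    pullback.lift (PicF.XTmap f a) (PicF.XTproj f T ≫ wY) (by
      rw [Category.assoc, hwY]; exact (HilbBC25.isPullback_XTmap f a).w)
  have hcomp : PicF.XTmap f (c.π.app k.left) ≫ PicF.XTmap f a = qX := by
    show _ = PicF.XTmap f (c.π.app i₀)
    rw [← HilbBC25.XTmap_comp]
    exact congrArg (PicF.XTmap f) (Cone.w c k.hom)
  have hv : PicF.XTmap f (c.π.app k.left) ≫ wX = vX := by
    apply pullback.hom_ext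
    · rw [Category.assoc, pullback.lift_fst, hcomp]
      exact h3.symm
    · rw [Category.assoc, pullback.lift_snd, reassoc_of% HilbBC25.XTmap_snd f (c.π.app k.left)]
      refine Eq.trans ?_ h4.symm
      congr 1
      apply pullback.hom_ext
      · rw [Category.assoc, pullback.lift_fst]
        refine Eq.trans ?_ h1.symm
        rw [← Cone.w c k.hom]
        rfl
      · rw [Category.assoc, pullback.lift_snd, Category.comp_id]
        refine Eq.trans ?_ h2.symm
        exact (Category.id_comp _).symm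
  have hflat : SchDom.Good h₀ (PicF.XTmap f a) (PicF.XTproj f T) (PicF.XTmap f (c.π.app k.left) x) := by
    refine SchDom.good_of_stage f₀ _ F₀ h₀ (PicF.XTproj f T) a.left (PicF.XTmap f a)
      (HilbBC25.isPullback_XTmap f a) _ (pullback.snd f₀ pY) pY (pullback.fst f₀ pY)
      (IsPullback.of_hasPullback _ _) wY wX hwY (pullback.lift_fst _ _ _) (pullback.lift_snd _ _ _) ?_
    rw [← Scheme.Hom.comp_apply, hv]
    exact hk
  exact SchDom.isFlatOverAt_of_iso _ (FpqcFun14.ETIso f F a) _
    ((SchDom.good_iff_of_isZero hZ h₀ _ _ _).1 hflat)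

/-- Flatness descends to a stage. -/
theorem exists_flat_stage (hF : CohB1.IsFP F)
    (h : FlatMod.IsFlatOver (PicF.XTproj f c.pt) (FGA.ET f F c.pt)) :
    ∃ i, FlatMod.IsFlatOver (PicF.XTproj f (D.obj i)) (FGA.ET f F (D.obj i)) := by
  by_contra hcon
  simp only [not_exists] at hcon
  haveI : ∀ {i j} (a : i ⟶ j), IsAffineHom ((sys f D).map a) := fun {i j} a => sys_affine f D hD i j a
  let Z : ∀ i, Set ↥(PicF.XT f (D.obj i)) := fun i =>
    {z | ¬ FlatMod.IsFlatOverAt (PicF.XTproj f (D.obj i)) (FGA.ET f F (D.obj i)) z}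
  have hclosed : ∀ i, IsClosed (Z i) := fun i => by
    haveI : Coh.IsQCoh (FGA.ET f F (D.obj i)) := M1.isQCoh_pullback _ inferInstance
    rw [← isOpen_compl_iff]
    simp only [Z, Set.compl_setOf, not_not]
    exact @Groth.Agent.S4863.result _ _ (PicF.XTproj f (D.obj i))
      (MorphismProperty.pullback_snd (P := @LocallyOfFinitePresentation) f (D.obj i).hom ‹_›) _ _
      (M1.isFP_pullback _ hF)
  have hmap : ∀ {i j : I} (a : i ⟶ j), (sys f D).map a = PicF.XTmap f (D.map a) := fun {i j} a => by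
    apply pullback.hom_ext
    · exact (Descend.pbMap_fst (D ⋙ Over.forget S) (str D) f a).trans (HilbBC25.XTmap_fst f (D.map a)).symm
    · exact (Descend.pbMap_snd (D ⋙ Over.forget S) (str D) f a).trans (HilbBC25.XTmap_snd f (D.map a)).symm
  have hπ : ∀ i, (sysCone f D c).π.app i = PicF.XTmap f (c.π.app i) := fun i => by
    apply pullback.hom_ext
    · exact (Descend.pbCone_fst (D ⋙ Over.forget S) (str D) f ((Over.forget S).mapCone c) _ _ i).trans
        (HilbBC25.XTmap_fst f (c.π.app i)).symm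
    · exact (Descend.pbCone_snd (D ⋙ Over.forget S) (str D) f ((Over.forget S).mapCone c) _ _ i).trans
        (HilbBC25.XTmap_snd f (c.π.app i)).symm
  obtain ⟨s, hs⟩ := exists_mem_of_isClosed_of_nonempty (sys f D) (sysCone f D c)
    (Descend.pbIsLimit (D ⋙ Over.forget S) (str D) f ((Over.forget S).mapCone c) _ _ hc)
    Z hclosed (fun i => not_forall.1 (hcon i))
    (fun i => by
      haveI := sys_compact f D hD i
      exact IsClosed.isCompact (X := ↥((sys f D).obj i)) (h := hclosed i))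
    (fun {i i'} a z hz => by
      rw [hmap a]
      exact fun hflat => hz (flatAt_map f F (D.map a) z hflat))
  obtain ⟨i, hi⟩ := exists_flatAt_stage f F D c hc hD hF s (h s)
  have := hs i
  rw [hπ i] at this
  exact this hi

end Groth.Agent.LimFun

end
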