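import Groth.Agent.Lib.LimFun.Basic
import Groth.Agent.Lib.ModLimH13.Hom1

/-!
# Vanishing and isomorphism conditions descend to a stage
-/

universe u

open CategoryTheory CategoryTheory.Limits AlgebraicGeometry Opposite TopologicalSpace

set_option autoImplicit false
set_option linter.style.haveILetI false
set_option backward.isDefEq.respectTransparency false

noncomputable section

namespace Groth.Agent.LimFun

variable {S X : Scheme.{u}} (f : X ⟶ S) [QuasiCompact f] {F G : X.Modules} [Coh.IsQCoh F] [Coh.IsQCoh G]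

/-- Stability of vanishing. -/
theorem zero_stable (u : F ⟶ G) {T T₀ : Over S} (k : T ⟶ T₀)
    (h : (Scheme.Modules.pullback (pullback.fst f T₀.hom)).map u = 0) :
    (Scheme.Modules.pullback (pullback.fst f T.hom)).map u = 0 :=
  (FpqcFun14.eq_zero_iff_map f u k).1 (by
    haveI := (Scheme.Modules.pullbackPushforwardAdjunction (PicF.XTmap f k)).left_adjoint_additive
    rw [h, Functor.map_zero])

/-- Stability of being an isomorphism. -/
theorem isIso_stable (u : F ⟶ G) {T T₀ : Over S} (k : T ⟶ T₀)
    (h : IsIso ((Scheme.Modules.pullback (pullback.fst f T₀.hom)).map u)) :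
    IsIso ((Scheme.Modules.pullback (pullback.fst f T.hom)).map u) := by
  haveI := h
  exact (FpqcFun14.isIso_iff_map f u k).1 inferInstance

variable {I : Type u} [SmallCategory I] [IsCofiltered I] (D : I ⥤ Over S) (c : Cone D)
  (hc : IsLimit ((Over.forget S).mapCone c)) (hD : ∀ i, IsAffine (D.obj i).left)

/-- The structure maps of a system over `S`. -/
def str : D ⋙ Over.forget S ⟶ (Functor.const I).obj S where
  app i := (D.obj i).hom
  naturality i j a := by simp

/-- The system `X_{T_i}`. -/
abbrev sys : I ⥤ Scheme.{u} := Descend.pbDiagram (D ⋙ Over.forget S) (str D) f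

/-- The cone with vertex `X_T`. -/
abbrev sysCone : Cone (sys f D) :=
  Descend.pbCone (D ⋙ Over.forget S) (str D) f ((Over.forget S).mapCone c) (q := c.pt.hom)
    (fun j => Over.w (c.π.app j)) (IsPullback.of_hasPullback f c.pt.hom)

include hD

theorem sys_compact (i : I) : CompactSpace ↥((sys f D).obj i) := by
  haveI := hD i
  exact QuasiCompact.compactSpace_of_compactSpace (pullback.snd f (D.obj i).hom)

theorem sys_affine (i j : I) (a : i ⟶ j) : IsAffineHom ((sys f D).map a) := by
  haveI := hD i
  haveI := hD j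
  exact MorphismProperty.of_isPullback (P := @IsAffineHom)
    (Descend.pbMap_isPullback (D ⋙ Over.forget S) (str D) f a).flip
    (inferInstanceAs (IsAffineHom (D.map a).left))

include hc

/-- Vanishing descends to a stage. -/
theorem exists_zero_stage (hF : CohB1.IsFT F) (u : F ⟶ G)
    (h : (Scheme.Modules.pullback (pullback.fst f c.pt.hom)).map u = 0) :
    ∃ i, (Scheme.Modules.pullback (pullback.fst f (D.obj i).hom)).map u = 0 := by
  obtain ⟨i₀⟩ := IsCofiltered.nonempty (C := I)
  haveI := sys_compact f D hD i₀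
  haveI : ∀ (i j : I) (a : i ⟶ j), IsAffineHom ((sys f D).map a) := sys_affine f D hD
  let g : (sys f D).obj i₀ ⟶ X := pullback.fst f (D.obj i₀).hom
  haveI : Coh.IsQCoh ((Scheme.Modules.pullback g).obj F) := M1.isQCoh_pullback g inferInstance
  haveI : Coh.IsQCoh ((Scheme.Modules.pullback g).obj G) := M1.isQCoh_pullback g inferInstance
  have w : (sysCone f D c).π.app i₀ ≫ g = pullback.fst f c.pt.hom :=
    Descend.pbCone_fst (D ⋙ Over.forget S) (str D) f ((Over.forget S).mapCone c) _ _ i₀
  have hlim : IsLimit (sysCone f D c) :=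
    Descend.pbIsLimit (D ⋙ Over.forget S) (str D) f ((Over.forget S).mapCone c) _ _ hc
  have h0 : (Scheme.Modules.pullback ((sysCone f D c).π.app i₀)).map ((Scheme.Modules.pullback g).map u) =
      (Scheme.Modules.pullback ((sysCone f D c).π.app i₀)).map ((Scheme.Modules.pullback g).map 0) :=
    (ModLimH13.map_pullback_eq_iff_of_comp _ g w u 0).2 (by
      rw [Functor.map_zero]
      exact h)
  obtain ⟨j, α, hα⟩ := ModLimH13.exists_map_eq hlim (M1.isFT_pullback g hF) _ _ h0
  refine ⟨j, ?_⟩
  have w' : (sys f D).map α ≫ g = pullback.fst f (D.obj j).hom :=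
    Descend.pbMap_fst (D ⋙ Over.forget S) (str D) f α
  refine ((ModLimH13.map_pullback_eq_iff_of_comp _ g w' u 0).1 hα).trans ?_
  rw [Functor.map_zero]

/-- Being an isomorphism descends to a stage. -/
theorem exists_isIso_stage (hF : CohB1.IsFT F) (hG : CohB1.IsFP G) (u : F ⟶ G)
    (h : IsIso ((Scheme.Modules.pullback (pullback.fst f c.pt.hom)).map u)) :
    ∃ i, IsIso ((Scheme.Modules.pullback (pullback.fst f (D.obj i).hom)).map u) := by
  obtain ⟨i₀⟩ := IsCofiltered.nonempty (C := I)
  haveI := sys_compact f D hD i₀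
  haveI : ∀ (i j : I) (a : i ⟶ j), IsAffineHom ((sys f D).map a) := sys_affine f D hD
  let g : (sys f D).obj i₀ ⟶ X := pullback.fst f (D.obj i₀).hom
  haveI : Coh.IsQCoh ((Scheme.Modules.pullback g).obj F) := M1.isQCoh_pullback g inferInstance
  haveI : Coh.IsQCoh ((Scheme.Modules.pullback g).obj G) := M1.isQCoh_pullback g inferInstance
  have w : (sysCone f D c).π.app i₀ ≫ g = pullback.fst f c.pt.hom :=
    Descend.pbCone_fst (D ⋙ Over.forget S) (str D) f ((Over.forget S).mapCone c) _ _ i₀
  have hlim : IsLimit (sysCone f D c) :=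
    Descend.pbIsLimit (D ⋙ Over.forget S) (str D) f ((Over.forget S).mapCone c) _ _ hc
  obtain ⟨j, α, hα⟩ := (ModLimH13.isIso_map_iff hlim (M1.isFT_pullback g hF) (M1.isFP_pullback g hG)
    ((Scheme.Modules.pullback g).map u)).1 ((ModLimH13.isIso_map_comp_iff _ g w u).2 h)
  exact ⟨j, (ModLimH13.isIso_map_comp_iff _ g (Descend.pbMap_fst (D ⋙ Over.forget S) (str D) f α) u).1 hα⟩

end Groth.Agent.LimFun

end
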